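import Groth.Agent.Lib.DeltaZ.Scheme
import Groth.Agent.Lib.Altitude.Scheme
import Groth.Agent.Lib.Altitude.Fibre
import Groth.Agent.Lib.CycBasic.DimFun

/-!
# The distance function and morphisms of finite type
-/

set_option autoImplicit false
set_option linter.all false

universe u

open CategoryTheory AlgebraicGeometry

namespace GrothLib.DeltaFT7

variable {Y Y' : Scheme.{u}}

theorem codimPt_eq_dim_locQuot {w v : Y} (h : w ⤳ v) :
    ((Algz.codimPt w v h : ℕ∞) : WithBot ℕ∞) = ringKrullDim (Cyc.LocQuot v w h) := by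
  rw [DeltaZ.codimPt_eq_coheight_stalk h _ (CycBasic.fromSpecStalk_comap_closedPoint h),
    ← AffDom.ringKrullDim_quotient_eq_coheight]
  exact ringKrullDim_eq_of_ringEquiv (Ideal.quotEquivOfEq (CycBasic.ker_specMap h).symm)

/-- The transcendence degree at a point. -/
def TdAt (f : Y' ⟶ Y) (x : Y') (n : ℕ) : Prop :=
  letI := (f.residueFieldMap x).hom.toAlgebra
  Algebra.trdeg (Y.residueField (f x)) (Y'.residueField x) = n

theorem tdAt_unique {f : Y' ⟶ Y} {x : Y'} {m n : ℕ} (hm : TdAt f x m) (hn : TdAt f x n) : m = n :=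
  Nat.cast_inj.1 (hm.symm.trans hn)

theorem exists_tdAt_le (f : Y' ⟶ Y) [LocallyOfFiniteType f] (e : ℕ)
    (hfib : ∀ y : Y, topologicalKrullDim (f.fiber y) ≤ (e : WithBot ℕ∞)) (x : Y') :
    ∃ n : ℕ, TdAt f x n ∧ n ≤ e := by
  obtain ⟨n, h1, h2⟩ := Altitude.exists_trdeg_eq_dim_closure f x
  refine ⟨n, h1, ?_⟩
  have h3 : (n : WithBot ℕ∞) ≤ (e : WithBot ℕ∞) :=
    h2.ge.trans ((Topology.IsEmbedding.subtypeVal.topologicalKrullDim_le).trans (hfib (f x)))
  exact_mod_cast h3

theorem sum_le_succ {k : ℕ} (g : Fin (k + 1) → ℕ) (i : Fin (k + 1)) :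
    (∑ j, if i ≤ j then g j else 0) = g i + ∑ j : Fin k, if i.val ≤ j.val then g j.succ else 0 := by
  have h : ∀ j : Fin k, (if i ≤ j.succ then g j.succ else 0) =
      (if i.val ≤ j.val then g j.succ else 0) + if i = j.succ then g j.succ else 0 := fun j => by
    simp only [Fin.le_def, Fin.ext_iff, Fin.val_succ]
    split_ifs <;> omega
  have h' : g i = (if i = 0 then g 0 else 0) + ∑ j : Fin k, if i = j.succ then g j.succ else 0 := by
    rw [← Fin.sum_univ_succ (fun j => if i = j then g j else 0), Finset.sum_ite_eq, if_pos (Finset.mem_univ _)]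
  rw [Fin.sum_univ_succ, h', Finset.sum_congr rfl fun j _ => h j, Finset.sum_add_distrib]
  have h0 : (if i ≤ 0 then g 0 else 0) = if i = 0 then g 0 else 0 := by simp only [Fin.le_zero_iff]
  rw [h0]
  omega

theorem sum_le_castSucc {k : ℕ} (g : Fin (k + 1) → ℕ) (i : Fin (k + 1)) :
    (∑ j, if i ≤ j then g j else 0) = g (Fin.last k) + ∑ j : Fin k, if i.val ≤ j.val then g j.castSucc else 0 := by
  rw [Fin.sum_univ_castSucc, if_pos (Fin.le_last i), add_comm]
  rfl

theorem deltaZ_add_le [IsLocallyNoetherian Y] (hY : ∀ y : Y, CAlg.IsUniversallyCatenary (Y.presheaf.stalk y))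
    (Z : Set Y) (f : Y' ⟶ Y) [LocallyOfFiniteType f] (e : ℕ)
    (hfib : ∀ y : Y, topologicalKrullDim (f.fiber y) ≤ (e : WithBot ℕ∞)) (y' : Y') (t : ℕ) (ht : TdAt f y' t) :
    Algz.deltaZ Z (f y') + t ≤ Algz.deltaZ (f ⁻¹' Z) y' + e := by
  choose td htd hte using exists_tdAt_le f e hfib
  refine le_of_le_of_eq ?_ (ENat.iInf_add (f := fun k => ⨅ S : Algz.DSystem (f ⁻¹' Z) y' k, S.delta) (a := (e : ℕ∞))).symm
  refine le_iInf fun k => le_of_le_of_eq ?_
    (ENat.iInf_add (f := fun S : Algz.DSystem (f ⁻¹' Z) y' k => S.delta) (a := (e : ℕ∞))).symm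
  refine le_iInf fun S => ?_
  let T : Algz.DSystem Z (f y') k :=
    { v := f ∘ S.v
      w := f ∘ S.w
      spec := fun i => (S.spec i).map f.continuous
      spec_succ := fun i => (S.spec_succ i).map f.continuous
      start_mem := S.start_mem
      last_eq := congrArg f S.last_eq }
  have key : ∀ {x z : Y'} (h : x ⤳ z), ∃ a b : ℕ, Algz.codimPt x z h = a ∧
      Algz.codimPt (f x) (f z) (h.map f.continuous) = b ∧ a + td z = b + td x := by
    intro x z h
    obtain ⟨t₁, s₁, a, b, h1, h2, h3, h4, -, heq⟩ := Altitude.dim_locQuot_add_trdeg f h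
    refine ⟨a, b, WithBot.coe_injective ((codimPt_eq_dim_locQuot h).trans h3),
      WithBot.coe_injective ((codimPt_eq_dim_locQuot (h.map f.continuous)).trans h4), ?_⟩
    rw [tdAt_unique (htd z) h2, tdAt_unique (htd x) h1]
    exact heq (hY _)
  choose c' c hc' hc hceq using fun i => key (S.spec i)
  choose b' b hb' hb hbeq using fun j => key (S.spec_succ j)
  have htl : td (S.w (Fin.last k)) = t := tdAt_unique (htd _) (by rw [S.last_eq]; exact ht)
  have hT : ∀ i, T.c i = (c i : ℕ∞) := hc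
  have hTb : ∀ j, T.b j = (b j : ℕ∞) := hb
  have hS : ∀ i, S.c i = (c' i : ℕ∞) := hc'
  have hSb : ∀ j, S.b j = (b' j : ℕ∞) := hb'
  refine le_trans (add_le_add (DeltaZ.deltaZ_le T) le_rfl) ?_
  show T.delta + t ≤ S.delta + e
  unfold Algz.DSystem.delta
  simp only [hT, hTb, hS, hSb, ← Nat.cast_sum, ← ENat.coe_sub]
  obtain ⟨i, -, hi⟩ := Finset.exists_mem_eq_sup (Finset.univ : Finset (Fin (k + 1))) Finset.univ_nonempty
    (fun i => ((((∑ j ∈ Finset.univ.filter (fun j : Fin (k + 1) => i ≤ j), c j) -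
      ∑ j ∈ Finset.univ.filter (fun j : Fin k => i.val ≤ j.val), b j : ℕ)) : ℕ∞))
  rw [hi, add_assoc, add_assoc]
  refine add_le_add le_rfl (le_trans ?_ (add_le_add (Finset.le_sup (Finset.mem_univ i)) le_rfl))
  norm_cast
  simp only [Finset.sum_filter]
  have e1 : (∑ j, if i ≤ j then c' j else 0) + (∑ j, if i ≤ j then td (S.v j) else 0) =
      (∑ j, if i ≤ j then c j else 0) + ∑ j, if i ≤ j then td (S.w j) else 0 := by
    rw [← Finset.sum_add_distrib, ← Finset.sum_add_distrib]
    exact Finset.sum_congr rfl fun j _ => by split_ifs <;> simp [hceq j]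
  have e2 : (∑ j : Fin k, if i.val ≤ j.val then b' j else 0) + (∑ j : Fin k, if i.val ≤ j.val then td (S.v j.succ) else 0) =
      (∑ j : Fin k, if i.val ≤ j.val then b j else 0) + ∑ j : Fin k, if i.val ≤ j.val then td (S.w j.castSucc) else 0 := by
    rw [← Finset.sum_add_distrib, ← Finset.sum_add_distrib]
    exact Finset.sum_congr rfl fun j _ => by split_ifs <;> simp [hbeq j]
  have e3 := sum_le_succ (fun j => td (S.v j)) i
  have e4 := sum_le_castSucc (fun j => td (S.w j)) i
  have hie := hte (S.v i)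
  have hte' : t ≤ e := htl ▸ hte _
  omega

end GrothLib.DeltaFT7
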